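import Cfsg.Agent.U43Type.Cert.Index.Defs

/-! Generated: kernel checks. -/

set_option Elab.async false

namespace Cfsg.Agent.U43Type.Cert.Index

open Cfsg.Agent.CosetCert

theorem log_okAt9000 : allFrom data.checkLog 9000 1500 = true := by decide +kernel

theorem log_okAt10500 : allFrom data.checkLog 10500 1500 = true := by decide +kernel

theorem log_okAt12000 : allFrom data.checkLog 12000 1500 = true := by decide +kernel

theorem log_okAt13500 : allFrom data.checkLog 13500 1500 = true := by decide +kernel

theorem log_okAt15000 : allFrom data.checkLog 15000 1500 = true := by decide +kernel

theorem log_okAt16500 : allFrom data.checkLog 16500 1500 = true := by decide +kernel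

end Cfsg.Agent.U43Type.Cert.Index
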