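import Cfsg.Agent.U43Type.Cert.Index.Defs

/-! Generated: kernel checks. -/

set_option Elab.async false

namespace Cfsg.Agent.U43Type.Cert.Index

open Cfsg.Agent.CosetCert

theorem log_okAt36000 : allFrom data.checkLog 36000 1500 = true := by decide +kernel

theorem log_okAt37500 : allFrom data.checkLog 37500 1500 = true := by decide +kernel

theorem log_okAt39000 : allFrom data.checkLog 39000 1500 = true := by decide +kernel

theorem log_okAt40500 : allFrom data.checkLog 40500 1500 = true := by decide +kernel

theorem log_okAt42000 : allFrom data.checkLog 42000 371 = true := by decide +kernel

end Cfsg.Agent.U43Type.Cert.Index
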