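import Cfsg.Agent.U43Type.Cert.Index.CheckLog0
import Cfsg.Agent.U43Type.Cert.Index.CheckLog1
import Cfsg.Agent.U43Type.Cert.Index.CheckLog2
import Cfsg.Agent.U43Type.Cert.Index.CheckLog3
import Cfsg.Agent.U43Type.Cert.Index.CheckLog4

/-! Generated: kernel checks combined. -/

namespace Cfsg.Agent.U43Type.Cert.Index

open Cfsg.Agent.CosetCert

theorem log_ok : ∀ i, i < 42371 → data.checkLog i = true := by
  have h0 : ∀ i, i < 0 → data.checkLog i = true := forall_lt_zero
  have h1 := forall_lt_step (b := 1500) h0 log_okAt0 rfl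
  have h2 := forall_lt_step (b := 3000) h1 log_okAt1500 rfl
  have h3 := forall_lt_step (b := 4500) h2 log_okAt3000 rfl
  have h4 := forall_lt_step (b := 6000) h3 log_okAt4500 rfl
  have h5 := forall_lt_step (b := 7500) h4 log_okAt6000 rfl
  have h6 := forall_lt_step (b := 9000) h5 log_okAt7500 rfl
  have h7 := forall_lt_step (b := 10500) h6 log_okAt9000 rfl
  have h8 := forall_lt_step (b := 12000) h7 log_okAt10500 rfl
  have h9 := forall_lt_step (b := 13500) h8 log_okAt12000 rfl
  have h10 := forall_lt_step (b := 15000) h9 log_okAt13500 rfl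
  have h11 := forall_lt_step (b := 16500) h10 log_okAt15000 rfl
  have h12 := forall_lt_step (b := 18000) h11 log_okAt16500 rfl
  have h13 := forall_lt_step (b := 19500) h12 log_okAt18000 rfl
  have h14 := forall_lt_step (b := 21000) h13 log_okAt19500 rfl
  have h15 := forall_lt_step (b := 22500) h14 log_okAt21000 rfl
  have h16 := forall_lt_step (b := 24000) h15 log_okAt22500 rfl
  have h17 := forall_lt_step (b := 25500) h16 log_okAt24000 rfl
  have h18 := forall_lt_step (b := 27000) h17 log_okAt25500 rfl
  have h19 := forall_lt_step (b := 28500) h18 log_okAt27000 rfl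
  have h20 := forall_lt_step (b := 30000) h19 log_okAt28500 rfl
  have h21 := forall_lt_step (b := 31500) h20 log_okAt30000 rfl
  have h22 := forall_lt_step (b := 33000) h21 log_okAt31500 rfl
  have h23 := forall_lt_step (b := 34500) h22 log_okAt33000 rfl
  have h24 := forall_lt_step (b := 36000) h23 log_okAt34500 rfl
  have h25 := forall_lt_step (b := 37500) h24 log_okAt36000 rfl
  have h26 := forall_lt_step (b := 39000) h25 log_okAt37500 rfl
  have h27 := forall_lt_step (b := 40500) h26 log_okAt39000 rfl
  have h28 := forall_lt_step (b := 42000) h27 log_okAt40500 rfl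
  have h29 := forall_lt_step (b := 42371) h28 log_okAt42000 rfl
  exact h29

end Cfsg.Agent.U43Type.Cert.Index
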